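import Mathlib

/-!
Inequalities between the order of a group of Lie type and the order of its unipotent radical.
-/

set_option autoImplicit false

namespace CfsgLib.LieBound

open Finset

/-- `d · c = q ^ N · R` with `R < q ^ M` and `d`, `R` prime to `p`: the conclusion of the order bound. -/
theorem bound {c p f q N M d R : ℕ} (hp : p.Prime) (hq : q = p ^ f) (hc : c ≠ 0) (hd : ¬ p ∣ d) (hR : ¬ p ∣ R)
    (heq : d * c = q ^ N * R) (hlt : R < q ^ M) (h2 : M ≤ 2 * N) :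
    c < p ^ (3 * c.factorization p) ∧ (3 * M ≤ 5 * N → c ^ 3 < p ^ (8 * c.factorization p)) := by
  have hd0 : d ≠ 0 := fun h => hd (h ▸ dvd_zero p)
  have hR0 : R ≠ 0 := fun h => hR (h ▸ dvd_zero p)
  have hq0 : 0 < q := hq ▸ pow_pos hp.pos f
  have hk : c.factorization p = f * N := by
    have h : (d * c).factorization p = (p ^ (f * N) * R).factorization p := by rw [heq, hq, pow_mul]
    rw [Nat.factorization_mul hd0 hc, Nat.factorization_mul (pow_pos hp.pos _).ne' hR0, Finsupp.add_apply,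
      Finsupp.add_apply, Nat.factorization_eq_zero_of_not_dvd hd, Nat.factorization_eq_zero_of_not_dvd hR,
      hp.factorization_pow, Finsupp.single_eq_same] at h
    omega
  have hc1 : c < q ^ (N + M) := by
    calc c ≤ d * c := Nat.le_mul_of_pos_left c (Nat.pos_of_ne_zero hd0)
      _ = q ^ N * R := heq
      _ < q ^ N * q ^ M := (Nat.mul_lt_mul_left (pow_pos hq0 N)).2 hlt
      _ = q ^ (N + M) := (pow_add q N M).symm
  rw [hk, show 3 * (f * N) = f * (3 * N) by ring, show 8 * (f * N) = f * (8 * N) by ring, pow_mul p f (3 * N),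
    pow_mul p f (8 * N), ← hq]
  refine ⟨hc1.trans_le (Nat.pow_le_pow_right hq0 (by omega)), fun h3 => ?_⟩
  refine (Nat.pow_lt_pow_left hc1 (by norm_num)).trans_le ?_
  rw [← pow_mul]
  exact Nat.pow_le_pow_right hq0 (by omega)

theorem two_le {p f q : ℕ} (hp : p.Prime) (hf : f ≠ 0) (hq : q = p ^ f) : 2 ≤ q :=
  hq ▸ hp.two_le.trans (Nat.le_self_pow hf p)

theorem not_dvd_pred {p f q j : ℕ} (hp : p.Prime) (hf : f ≠ 0) (hq : q = p ^ f) (hj : j ≠ 0) :
    ¬ p ∣ q ^ j - 1 := by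
  intro h
  have h1 : p ∣ q ^ j := dvd_pow (hq ▸ dvd_pow_self p hf) hj
  have h2 : 1 ≤ q ^ j := Nat.one_le_pow _ _ (by have := two_le hp hf hq; omega)
  have h3 := Nat.dvd_sub h1 h
  rw [Nat.sub_sub_self h2] at h3
  exact hp.one_lt.ne' (Nat.dvd_one.1 h3)

theorem not_dvd_succ {p f q j : ℕ} (hp : p.Prime) (hf : f ≠ 0) (hq : q = p ^ f) (hj : j ≠ 0) :
    ¬ p ∣ q ^ j + 1 := by
  intro h
  have h1 : p ∣ q ^ j := dvd_pow (hq ▸ dvd_pow_self p hf) hj
  exact hp.one_lt.ne' (Nat.dvd_one.1 ((Nat.dvd_add_right h1).1 h))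

theorem not_dvd_of_dvd {p a b : ℕ} (h : a ∣ b) (hb : ¬ p ∣ b) : ¬ p ∣ a := fun ha => hb (ha.trans h)

theorem not_dvd_mul {p a b : ℕ} (hp : p.Prime) (ha : ¬ p ∣ a) (hb : ¬ p ∣ b) : ¬ p ∣ a * b :=
  fun h => (hp.dvd_mul.1 h).elim ha hb

theorem not_dvd_prod {p : ℕ} (hp : p.Prime) {s : Finset ℕ} {g : ℕ → ℕ} (h : ∀ i ∈ s, ¬ p ∣ g i) :
    ¬ p ∣ ∏ i ∈ s, g i :=
  hp.prime.not_dvd_finsetProd h

theorem pred_lt {q : ℕ} (hq : 2 ≤ q) (j : ℕ) : q ^ j - 1 < q ^ j :=
  Nat.sub_lt (pow_pos (by omega) j) one_pos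

theorem mul_pred_lt {q R M : ℕ} (hq : 2 ≤ q) (h : R < q ^ M) (j : ℕ) : R * (q ^ j - 1) < q ^ (M + j) := by
  rw [pow_add]
  exact Nat.mul_lt_mul'' h (pred_lt hq j)

theorem succ_le {q : ℕ} (hq : 2 ≤ q) (j : ℕ) : q ^ j + 1 ≤ q ^ (j + 1) := by
  have h1 : 1 ≤ q ^ j := Nat.one_le_pow _ _ (by omega)
  rw [pow_succ]
  nlinarith

theorem mul_succ_lt {q R M : ℕ} (hq : 2 ≤ q) (h : R < q ^ M) (j : ℕ) : R * (q ^ j + 1) < q ^ (M + (j + 1)) := by
  rw [pow_add q M (j + 1)]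
  exact Nat.mul_lt_mul_of_lt_of_le h (succ_le hq j) (pow_pos (by omega) _)

theorem prod_pred_lt {q : ℕ} (hq : 2 ≤ q) (k : ℕ) (e : ℕ → ℕ) :
    ∏ i ∈ range (k + 1), (q ^ e i - 1) < q ^ ∑ i ∈ range (k + 1), e i := by
  induction k with
  | zero => simpa using pred_lt hq (e 0)
  | succ k ih =>
    rw [Finset.prod_range_succ, Finset.sum_range_succ]
    exact mul_pred_lt hq ih _

theorem two_mul_sum_add (k a : ℕ) : 2 * (∑ i ∈ range k, (i + a)) + k = k * (k + 2 * a) := by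
  induction k with
  | zero => simp
  | succ k ih => rw [Finset.sum_range_succ]; nlinarith

theorem prod_sub_pow (q n : ℕ) :
    ∏ i : Fin n, (q ^ n - q ^ (i : ℕ)) = q ^ (∑ i ∈ range n, i) * ∏ i ∈ range n, (q ^ (i + 1) - 1) := by
  rw [Fin.prod_univ_eq_prod_range (fun i => q ^ n - q ^ i) n, ← Finset.prod_pow_eq_pow_sum,
    ← Finset.prod_range_reflect (fun i => q ^ (i + 1) - 1) n, ← Finset.prod_mul_distrib]
  refine Finset.prod_congr rfl fun i hi => ?_
  rw [Finset.mem_range] at hi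
  rw [Nat.mul_sub, mul_one, ← pow_add, show i + (n - 1 - i + 1) = n by omega]

/-- The `p'`-part of a special unitary order. -/
def suTail (q k : ℕ) : ℕ := ∏ i ∈ range k, (if Even i then q ^ (i + 2) - 1 else q ^ (i + 2) + 1)

theorem pair_lt {q a : ℕ} (hq : 2 ≤ q) : (q ^ a - 1) * (q ^ (a + 1) + 1) < q ^ (a + (a + 1)) := by
  have h1 : 1 ≤ q ^ a := Nat.one_le_pow _ _ (by omega)
  obtain ⟨x, hx⟩ := Nat.exists_eq_add_of_le h1
  rw [pow_add q a (a + 1), pow_succ, hx, Nat.add_sub_cancel_left]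
  have h3 : x * 2 ≤ x * q := Nat.mul_le_mul_left x hq
  ring_nf
  nlinarith

theorem suTail_le {q : ℕ} (hq : 2 ≤ q) (t : ℕ) :
    suTail q (2 * t) ≤ q ^ ∑ i ∈ range (2 * t), (i + 2) := by
  induction t with
  | zero => simp [suTail]
  | succ t ih =>
    rw [show 2 * (t + 1) = 2 * t + 1 + 1 by ring, suTail, Finset.prod_range_succ, Finset.prod_range_succ,
      Finset.sum_range_succ, Finset.sum_range_succ, if_pos (even_two_mul t),
      if_neg (by simp [parity_simps]), mul_assoc]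
    refine (Nat.mul_le_mul ih (pair_lt (a := 2 * t + 2) hq).le).trans ?_
    rw [← pow_add]
    exact Nat.pow_le_pow_right (by omega) (by omega)

theorem suTail_lt {q : ℕ} (hq : 2 ≤ q) {k : ℕ} (hk : 2 ≤ k) : suTail q k < q ^ ∑ i ∈ range k, (i + 2) := by
  rcases Nat.even_or_odd' k with ⟨t, rfl | rfl⟩
  · obtain ⟨s, rfl⟩ : ∃ s, t = s + 1 := ⟨t - 1, by omega⟩
    rw [show 2 * (s + 1) = 2 * s + 1 + 1 by ring, suTail, Finset.prod_range_succ, Finset.prod_range_succ,
      Finset.sum_range_succ, Finset.sum_range_succ, if_pos (even_two_mul s),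
      if_neg (by simp [parity_simps]), mul_assoc]
    refine (Nat.mul_lt_mul_of_le_of_lt (suTail_le hq s) (pair_lt (a := 2 * s + 2) hq)
      (pow_pos (by omega) _)).trans_le ?_
    rw [← pow_add]
    exact Nat.pow_le_pow_right (by omega) (by omega)
  · rw [suTail, Finset.prod_range_succ, Finset.sum_range_succ, if_pos (even_two_mul t)]
    refine (Nat.mul_lt_mul_of_le_of_lt (suTail_le hq t) (pred_lt hq (2 * t + 2))
      (pow_pos (by omega) _)).trans_le ?_
    rw [← pow_add]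

theorem prod_su (q k : ℕ) :
    ∏ i ∈ range (k + 1), (if Even i then q ^ (i + 1) + 1 else q ^ (i + 1) - 1) = (q + 1) * suTail q k := by
  rw [Finset.prod_range_succ', suTail, mul_comm]
  congr 1
  · simp
  refine Finset.prod_congr rfl fun i _ => ?_
  by_cases h : Even i <;> simp [h, parity_simps, add_assoc]

end CfsgLib.LieBound
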