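import Cfsg.Prelude.Def_LieTypeChar
import Cfsg.Agent.LieBound.Arith
import Cfsg.Agent.S0243
import Cfsg.Agent.S0245
import Cfsg.Agent.S0280
import Cfsg.Agent.S0292
import Cfsg.Agent.S0293
import Cfsg.Agent.S0294
import Cfsg.Agent.S1059
import Cfsg.Agent.S1062
import Cfsg.Agent.S1063
import Cfsg.Agent.S1064
import Cfsg.Agent.S1065
import Cfsg.Agent.S1066
import Cfsg.Agent.S1067
import Cfsg.Agent.S1068
import Cfsg.Agent.S1069
import Cfsg.Agent.S1163
import Cfsg.Agent.Classical.SymplecticBasic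

/-!
The order bounds, family by family.
-/

set_option autoImplicit false
set_option linter.style.haveILetI false

namespace CfsgLib.LieBound

open Finset

variable {p : ℕ} {F : Type*} [Field F] [Fintype F]

theorem exists_card (hp : p.Prime) [CharP F p] : ∃ f, f ≠ 0 ∧ Fintype.card F = p ^ f := by
  haveI := Fact.mk hp
  obtain ⟨n, -, hn⟩ := FiniteField.card F p
  exact ⟨n, n.ne_zero, hn⟩

theorem root_card (hp : p.Prime) [CharP F p] {q d : ℕ} (hd : d ≠ 0) (hq : Fintype.card F = q ^ d) :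
    ∃ f, f ≠ 0 ∧ q = p ^ f := by
  obtain ⟨e, he, hF⟩ := exists_card (F := F) hp
  obtain ⟨f, -, hf⟩ := (Nat.dvd_prime_pow hp).1 (hF ▸ hq.symm ▸ dvd_pow_self q hd : q ∣ p ^ e)
  refine ⟨f, fun h => he ?_, hf⟩
  rw [hf, h, pow_zero, one_pow, hF] at hq
  exact (Nat.pow_eq_one.1 hq).resolve_left hp.one_lt.ne'

/-- The conclusion of the order bound for a number. -/
def OK (p c : ℕ) : Prop := c < p ^ (3 * c.factorization p) ∧ c ^ 3 < p ^ (8 * c.factorization p)

theorem ok_of {c f q N M d R : ℕ} (hp : p.Prime) (hq : q = p ^ f) (hc : c ≠ 0) (hd : ¬ p ∣ d) (hR : ¬ p ∣ R)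
    (heq : d * c = q ^ N * R) (hlt : R < q ^ M) (h2 : M ≤ 2 * N) (h3 : 3 * M ≤ 5 * N) : OK p c :=
  ⟨(bound hp hq hc hd hR heq hlt h2).1, (bound hp hq hc hd hR heq hlt h2).2 h3⟩

theorem psl_data [CharP F p] (hp : p.Prime) {n : ℕ} (hn : 2 ≤ n) :
    ∃ f q d R : ℕ, f ≠ 0 ∧ q = p ^ f ∧ Fintype.card F = q ∧ ¬ p ∣ d ∧ ¬ p ∣ R ∧
      d * Nat.card (Matrix.ProjectiveSpecialLinearGroup (Fin n) F) = q ^ (∑ i ∈ range n, i) * R ∧
      R < q ^ ∑ i ∈ range (n - 1), (i + 2) := by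
  obtain ⟨f, hf, hF⟩ := exists_card (F := F) hp
  obtain ⟨k, rfl⟩ : ∃ k, n = k + 2 := ⟨n - 2, by omega⟩
  set q := Fintype.card F with hq
  have hq2 : 2 ≤ q := two_le hp hf hF
  refine ⟨f, q, Nat.gcd (k + 2) (q - 1), ∏ i ∈ range (k + 1), (q ^ (i + 2) - 1), hf, hF, rfl, ?_, ?_, ?_, ?_⟩
  · refine not_dvd_of_dvd (Nat.gcd_dvd_right _ _) ?_
    simpa using not_dvd_pred hp hf hF one_ne_zero
  · exact not_dvd_prod hp fun i _ => not_dvd_pred hp hf hF (by omega)
  · have h := Cfsg.Agent.S0243.result (F := F) hq.symm (k + 2) hn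
    rw [prod_sub_pow, Finset.prod_range_succ' (fun i => q ^ (i + 1) - 1) (k + 1), zero_add, pow_one] at h
    refine Nat.eq_of_mul_eq_mul_left (show 0 < q - 1 by omega) ?_
    rw [mul_left_comm, h]
    ring
  · exact prod_pred_lt hq2 k fun i => i + 2

theorem ok_psl [CharP F p] (hp : p.Prime) {n : ℕ} (hn : 3 ≤ n) :
    OK p (Nat.card (Matrix.ProjectiveSpecialLinearGroup (Fin n) F)) := by
  obtain ⟨f, q, d, R, hf, hq, -, hd, hR, heq, hlt⟩ := psl_data (F := F) (n := n) hp (by omega)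
  obtain ⟨k, rfl⟩ : ∃ k, n = k + 3 := ⟨n - 3, by omega⟩
  have h1 := two_mul_sum_add (k + 3) 0
  have h2 := two_mul_sum_add (k + 3 - 1) 2
  simp only [add_zero, Nat.add_sub_cancel] at h1 h2
  rw [show k + 3 - 1 = k + 2 by omega] at h2 hlt
  exact ok_of hp hq Nat.card_pos.ne' hd hR heq hlt (by nlinarith) (by nlinarith)

theorem psl_two [CharP F p] (hp : p.Prime) :
    Nat.card (Matrix.ProjectiveSpecialLinearGroup (Fin 2) F) <
        p ^ (3 * (Nat.card (Matrix.ProjectiveSpecialLinearGroup (Fin 2) F)).factorization p) ∧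
      Fintype.card F = p ^ (Nat.card (Matrix.ProjectiveSpecialLinearGroup (Fin 2) F)).factorization p := by
  obtain ⟨f, q, d, R, hf, hq, hF, hd, hR, heq, hlt⟩ := psl_data (F := F) (n := 2) hp le_rfl
  simp only [Finset.sum_range_succ, Finset.sum_range_zero, Finset.sum_range_one, zero_add, pow_one, Nat.add_one_sub_one] at heq hlt
  have hc : Nat.card (Matrix.ProjectiveSpecialLinearGroup (Fin 2) F) ≠ 0 := Nat.card_pos.ne'
  refine ⟨(bound hp hq hc hd hR (N := 1) (by rw [pow_one]; exact heq) hlt le_rfl).1, ?_⟩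
  have hd0 : d ≠ 0 := fun h => hd (h ▸ dvd_zero p)
  have hR0 : R ≠ 0 := fun h => hR (h ▸ dvd_zero p)
  have h : (d * Nat.card (Matrix.ProjectiveSpecialLinearGroup (Fin 2) F)).factorization p =
      (p ^ f * R).factorization p := by rw [heq, hq]
  rw [Nat.factorization_mul hd0 hc, Nat.factorization_mul (pow_pos hp.pos _).ne' hR0, Finsupp.add_apply,
    Finsupp.add_apply, Nat.factorization_eq_zero_of_not_dvd hd, Nat.factorization_eq_zero_of_not_dvd hR,
    hp.factorization_pow, Finsupp.single_eq_same, zero_add, add_zero] at h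
  rw [h, hF, hq]

theorem two_mul_sum_two (m : ℕ) : ∑ i ∈ range m, 2 * (i + 1) = m * (m + 1) := by
  induction m with
  | zero => simp
  | succ k ih => rw [Finset.sum_range_succ, ih]; ring

theorem ok_symp_like {c f q d m : ℕ} (hp : p.Prime) (hf : f ≠ 0) (hq : q = p ^ f) (hc : c ≠ 0) (hm : 2 ≤ m)
    (hd : ¬ p ∣ d) (heq : d * c = q ^ (m ^ 2) * ∏ i ∈ range m, (q ^ (2 * (i + 1)) - 1)) : OK p c := by
  obtain ⟨k, rfl⟩ : ∃ k, m = k + 1 := ⟨m - 1, by omega⟩
  refine ok_of hp hq hc hd (not_dvd_prod hp fun i _ => not_dvd_pred hp hf hq (by omega)) heq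
    (prod_pred_lt (two_le hp hf hq) k fun i => 2 * (i + 1)) ?_ ?_
  · rw [two_mul_sum_two]; nlinarith
  · rw [two_mul_sum_two]; nlinarith

theorem ok_psp [CharP F p] (hp : p.Prime) {m : ℕ} (hm : 2 ≤ m) : OK p (Nat.card (Cfsg.PSp m F)) := by
  classical
  obtain ⟨f, hf, hF⟩ := exists_card (F := F) hp
  haveI : Nonempty (Fin m) := ⟨⟨0, by omega⟩⟩
  haveI : Finite (Matrix.symplecticGroup (Fin m) F) := Finite.of_injective _ Subtype.val_injective
  refine ok_symp_like (d := Nat.gcd 2 (Fintype.card F - 1)) hp hf hF Nat.card_pos.ne' hm ?_ ?_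
  · refine not_dvd_of_dvd (Nat.gcd_dvd_right _ _) ?_
    simpa using not_dvd_pred hp hf hF one_ne_zero
  · rw [← Cfsg.Agent.S0245.result (F := F) rfl m,
      Subgroup.card_eq_card_quotient_mul_card_subgroup (Subgroup.center (Matrix.symplecticGroup (Fin m) F)),
      CfsgLib.Symp.card_center, Nat.card_eq_fintype_card (α := F), mul_comm]

theorem ok_pOmega_odd [CharP F p] (hp : p.Prime) {m : ℕ} (hm : 3 ≤ m) (hodd : Odd (Fintype.card F)) :
    OK p (Nat.card (Cfsg.POmega F (Cfsg.quadFormOdd m F))) := by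
  obtain ⟨f, hf, hF⟩ := exists_card (F := F) hp
  have heq := Cfsg.Agent.S0292.result (F := F) rfl hodd m hm
  refine ok_symp_like (d := 2) hp hf hF ?_ (by omega) ?_ heq
  · intro h
    rw [h, mul_zero, eq_comm, mul_eq_zero] at heq
    rcases heq with h1 | h1
    · exact (pow_ne_zero _ Fintype.card_ne_zero) h1
    · exact not_dvd_prod hp (fun i _ => not_dvd_pred hp hf hF (by omega)) (h1 ▸ dvd_zero p)
  · intro h
    have h2 : p = 2 := (Nat.prime_dvd_prime_iff_eq hp Nat.prime_two).1 h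
    rw [hF, h2] at hodd
    exact Nat.not_even_iff_odd.2 hodd ((Nat.even_pow' hf).2 even_two)

theorem ok_psu [CharP F p] (hp : p.Prime) {n q : ℕ} (hF : Fintype.card F = q ^ 2) (hn : 3 ≤ n) :
    OK p (Nat.card (Cfsg.PSU n F q)) := by
  classical
  obtain ⟨f, hf, hq⟩ := root_card (F := F) hp two_ne_zero hF
  obtain ⟨k, rfl⟩ : ∃ k, n = k + 1 := ⟨n - 1, by omega⟩
  have hq2 := two_le hp hf hq
  have heq : Nat.gcd (k + 1) (q + 1) * Nat.card (Cfsg.PSU (k + 1) F q) = q ^ ((k + 1) * k / 2) * suTail q k := by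
    have h := Cfsg.Agent.S0280.result (F := F) hF (k + 1) (by omega)
    rw [prod_su, Nat.add_sub_cancel] at h
    refine Nat.eq_of_mul_eq_mul_left (show 0 < q + 1 by omega) ?_
    rw [mul_left_comm, h]
    ring
  have hR : ¬ p ∣ suTail q k := not_dvd_prod hp fun i _ => by
    split
    · exact not_dvd_pred hp hf hq (by omega)
    · exact not_dvd_succ hp hf hq (by omega)
  have h1 := two_mul_sum_add k 2
  have h2 : 2 * ((k + 1) * k / 2) = (k + 1) * k :=
    Nat.mul_div_cancel' (by rw [mul_comm]; exact even_iff_two_dvd.1 (Nat.even_mul_succ_self k))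
  refine ok_of hp hq (fun h => ?_) (not_dvd_of_dvd (Nat.gcd_dvd_right _ _)
    (by simpa using not_dvd_succ hp hf hq one_ne_zero)) hR heq (suTail_lt hq2 (by omega)) (by nlinarith) (by nlinarith)
  rw [h, mul_zero, eq_comm, mul_eq_zero] at heq
  rcases heq with h3 | h3
  · exact pow_ne_zero _ (by omega) h3
  · exact hR (h3 ▸ dvd_zero p)

theorem ok_pm {c f q d m R₀ : ℕ} (hp : p.Prime) (hf : f ≠ 0) (hq : q = p ^ f) (hm : 4 ≤ m) (hd : d ∣ R₀)
    (hR₀ : ¬ p ∣ R₀) (hlt : R₀ < q ^ (m + 1))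
    (heq : d * c = q ^ (m * (m - 1)) * R₀ * ∏ i ∈ range (m - 1), (q ^ (2 * (i + 1)) - 1)) : OK p c := by
  obtain ⟨k, rfl⟩ : ∃ k, m = k + 2 := ⟨m - 2, by omega⟩
  have hq2 := two_le hp hf hq
  simp only [show k + 2 - 1 = k + 1 by omega] at heq
  have hR : ¬ p ∣ R₀ * ∏ i ∈ range (k + 1), (q ^ (2 * (i + 1)) - 1) :=
    not_dvd_mul hp hR₀ (not_dvd_prod hp fun i _ => not_dvd_pred hp hf hq (by omega))
  rw [mul_assoc] at heq
  refine ok_of hp hq (M := (k + 2 + 1) + (k + 1) * (k + 2)) (fun h => ?_) (not_dvd_of_dvd hd hR₀) hR heq ?_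
    (by nlinarith) (by nlinarith)
  · rw [h, mul_zero, eq_comm, mul_eq_zero] at heq
    rcases heq with h1 | h1
    · exact pow_ne_zero _ (by omega) h1
    · exact hR (h1 ▸ dvd_zero p)
  · have h := prod_pred_lt hq2 k fun i => 2 * (i + 1)
    rw [two_mul_sum_two] at h
    rw [pow_add]
    exact Nat.mul_lt_mul'' hlt h

theorem ok_pOmega_plus [CharP F p] (hp : p.Prime) {m : ℕ} (hm : 4 ≤ m) :
    OK p (Nat.card (Cfsg.POmega F (Cfsg.quadFormPlus m F))) := by
  obtain ⟨f, hf, hF⟩ := exists_card (F := F) hp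
  have hq2 := two_le hp hf hF
  exact ok_pm hp hf hF hm (Nat.gcd_dvd_right _ _) (not_dvd_pred hp hf hF (by omega))
    ((pred_lt hq2 m).trans_le (Nat.pow_le_pow_right (by omega) (by omega))) (Cfsg.Agent.S0293.result rfl m hm)

theorem ok_pOmega_minus [CharP F p] (hp : p.Prime) {m : ℕ} (hm : 4 ≤ m) {a b : F}
    (hab : ∀ z₁ z₂ : F, z₁ ^ 2 + a * z₁ * z₂ + b * z₂ ^ 2 = 0 → z₁ = 0 ∧ z₂ = 0) :
    OK p (Nat.card (Cfsg.POmega F (Cfsg.quadFormMinus (m - 1) F a b))) := by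
  obtain ⟨f, hf, hF⟩ := exists_card (F := F) hp
  have hq2 := two_le hp hf hF
  refine ok_pm hp hf hF hm (Nat.gcd_dvd_right _ _) (not_dvd_succ hp hf hF (by omega)) ?_
    (Cfsg.Agent.S0294.result rfl m hm a b hab)
  rw [pow_succ]
  have : 2 ≤ Fintype.card F ^ m := hq2.trans (Nat.le_self_pow (by omega) _)
  nlinarith

theorem card_ne_zero_of {c N R d q : ℕ} (hq : q ≠ 0) (hR : R ≠ 0) (heq : d * c = q ^ N * R) : c ≠ 0 := by
  rintro rfl
  rw [mul_zero] at heq
  exact mul_ne_zero (pow_ne_zero _ hq) hR heq.symm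

theorem ok_exc {c f q d N M R : ℕ} (hp : p.Prime) (hf : f ≠ 0) (hq : q = p ^ f) (hd : ¬ p ∣ d) (hR : ¬ p ∣ R)
    (heq : d * c = q ^ N * R) (hlt : R < q ^ M) (h2 : M ≤ 2 * N) (h3 : 3 * M ≤ 5 * N) : OK p c :=
  ok_of hp hq (card_ne_zero_of (c := c) (q := q) (by have := two_le hp hf hq; omega)
    (fun h : R = 0 => hR (h ▸ dvd_zero p)) heq) hd hR heq hlt h2 h3

theorem ok_G2 [CharP F p] (hp : p.Prime) : OK p (Nat.card ↥(Cfsg.Lie.chevG2.group F)) := by
  obtain ⟨f, hf, hF⟩ := exists_card (F := F) hp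
  have h := Cfsg.Agent.S1059.result (F := F) rfl
  have nd := fun j (hj : j ≠ 0) => not_dvd_pred hp hf hF (j := j) hj
  have hq2 := two_le hp hf hF
  exact ok_exc (d := 1) hp hf hF hp.not_dvd_one (not_dvd_mul hp (nd 2 (by omega)) (nd 6 (by omega)))
    (by rw [one_mul, h, mul_assoc]) (mul_pred_lt hq2 (pred_lt hq2 2) 6) (by omega) (by omega)

theorem ok_F4 [CharP F p] (hp : p.Prime) : OK p (Nat.card ↥(Cfsg.Lie.chevF4.group F)) := by
  obtain ⟨f, hf, hF⟩ := exists_card (F := F) hp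
  have h := Cfsg.Agent.S1062.result (F := F) rfl
  have nd := fun j (hj : j ≠ 0) => not_dvd_pred hp hf hF (j := j) hj
  have hq2 := two_le hp hf hF
  exact ok_exc (d := 1) (N := 24) hp hf hF hp.not_dvd_one
    (not_dvd_mul hp (not_dvd_mul hp (not_dvd_mul hp (nd 2 (by omega)) (nd 6 (by omega))) (nd 8 (by omega)))
      (nd 12 (by omega)))
    (by rw [one_mul, h]; ring) (mul_pred_lt hq2 (mul_pred_lt hq2 (mul_pred_lt hq2 (pred_lt hq2 2) 6) 8) 12)
    (by omega) (by omega)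

theorem ok_E6 [CharP F p] (hp : p.Prime) : OK p (Nat.card ↥(Cfsg.Lie.chevE6.group F)) := by
  obtain ⟨f, hf, hF⟩ := exists_card (F := F) hp
  have h := Cfsg.Agent.S1063.result (F := F) rfl
  have nd := fun j (hj : j ≠ 0) => not_dvd_pred hp hf hF (j := j) hj
  have hq2 := two_le hp hf hF
  exact ok_exc (N := 36) hp hf hF (not_dvd_of_dvd (Nat.gcd_dvd_right 3 _) (by simpa using nd 1 one_ne_zero))
    (not_dvd_mul hp (not_dvd_mul hp (not_dvd_mul hp (not_dvd_mul hp (not_dvd_mul hp (nd 2 (by omega))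
      (nd 5 (by omega))) (nd 6 (by omega))) (nd 8 (by omega))) (nd 9 (by omega))) (nd 12 (by omega)))
    (by rw [h]; ring)
    (mul_pred_lt hq2 (mul_pred_lt hq2 (mul_pred_lt hq2 (mul_pred_lt hq2 (mul_pred_lt hq2 (pred_lt hq2 2) 5) 6) 8) 9) 12)
    (by omega) (by omega)

theorem ok_E7 [CharP F p] (hp : p.Prime) : OK p (Nat.card ↥(Cfsg.Lie.chevE7.group F)) := by
  obtain ⟨f, hf, hF⟩ := exists_card (F := F) hp
  have h := Cfsg.Agent.S1064.result (F := F) rfl
  have nd := fun j (hj : j ≠ 0) => not_dvd_pred hp hf hF (j := j) hj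
  have hq2 := two_le hp hf hF
  exact ok_exc (N := 63) hp hf hF (not_dvd_of_dvd (Nat.gcd_dvd_right 2 _) (by simpa using nd 1 one_ne_zero))
    (not_dvd_mul hp (not_dvd_mul hp (not_dvd_mul hp (not_dvd_mul hp (not_dvd_mul hp (not_dvd_mul hp (nd 2 (by omega))
      (nd 6 (by omega))) (nd 8 (by omega))) (nd 10 (by omega))) (nd 12 (by omega))) (nd 14 (by omega))) (nd 18 (by omega)))
    (by rw [h]; ring)
    (mul_pred_lt hq2 (mul_pred_lt hq2 (mul_pred_lt hq2 (mul_pred_lt hq2 (mul_pred_lt hq2 (mul_pred_lt hq2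
      (pred_lt hq2 2) 6) 8) 10) 12) 14) 18)
    (by omega) (by omega)

theorem ok_E8 [CharP F p] (hp : p.Prime) : OK p (Nat.card ↥(Cfsg.Lie.chevE8.group F)) := by
  obtain ⟨f, hf, hF⟩ := exists_card (F := F) hp
  have h := Cfsg.Agent.S1065.result (F := F) rfl
  have nd := fun j (hj : j ≠ 0) => not_dvd_pred hp hf hF (j := j) hj
  have hq2 := two_le hp hf hF
  exact ok_exc (d := 1) (N := 120) hp hf hF hp.not_dvd_one
    (not_dvd_mul hp (not_dvd_mul hp (not_dvd_mul hp (not_dvd_mul hp (not_dvd_mul hp (not_dvd_mul hp (not_dvd_mul hp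
      (nd 2 (by omega)) (nd 8 (by omega))) (nd 12 (by omega))) (nd 14 (by omega))) (nd 18 (by omega)))
      (nd 20 (by omega))) (nd 24 (by omega))) (nd 30 (by omega)))
    (by rw [one_mul, h]; ring)
    (mul_pred_lt hq2 (mul_pred_lt hq2 (mul_pred_lt hq2 (mul_pred_lt hq2 (mul_pred_lt hq2 (mul_pred_lt hq2
      (mul_pred_lt hq2 (pred_lt hq2 2) 8) 12) 14) 18) 20) 24) 30)
    (by omega) (by omega)

theorem ok_2E6 [CharP F p] (hp : p.Prime) {q : ℕ} (hq : IsPrimePow q) (hK : Fintype.card F = q ^ 2) :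
    OK p (Nat.card ↥(Cfsg.Lie.twistedE6 F q)) := by
  obtain ⟨f, hf, hF⟩ := root_card (F := F) hp two_ne_zero hK
  have h := Cfsg.Agent.S1066.result hq hK
  have nd := fun j (hj : j ≠ 0) => not_dvd_pred hp hf hF (j := j) hj
  have ns := fun j (hj : j ≠ 0) => not_dvd_succ hp hf hF (j := j) hj
  have hq2 := two_le hp hf hF
  exact ok_exc (N := 36) hp hf hF (not_dvd_of_dvd (Nat.gcd_dvd_right 3 _) (by simpa using ns 1 one_ne_zero))
    (not_dvd_mul hp (not_dvd_mul hp (not_dvd_mul hp (not_dvd_mul hp (not_dvd_mul hp (nd 2 (by omega))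
      (ns 5 (by omega))) (nd 6 (by omega))) (nd 8 (by omega))) (ns 9 (by omega))) (nd 12 (by omega)))
    (by rw [h]; ring)
    (mul_pred_lt hq2 (mul_succ_lt hq2 (mul_pred_lt hq2 (mul_pred_lt hq2 (mul_succ_lt hq2 (pred_lt hq2 2) 5) 6) 8) 9) 12)
    (by omega) (by omega)

theorem ok_3D4 [CharP F p] (hp : p.Prime) {q : ℕ} (hq : IsPrimePow q) (hK : Fintype.card F = q ^ 3) :
    OK p (Nat.card ↥(Cfsg.Lie.twistedD4 F q)) := by
  obtain ⟨f, hf, hF⟩ := root_card (F := F) hp three_ne_zero hK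
  have h := Cfsg.Agent.S1067.result hq hK
  have nd := fun j (hj : j ≠ 0) => not_dvd_pred hp hf hF (j := j) hj
  have hq2 := two_le hp hf hF
  have h8 : ¬ p ∣ q ^ 8 + q ^ 4 + 1 := fun hd => by
    have h1 : p ∣ q := hF ▸ dvd_pow_self p hf
    exact hp.one_lt.ne' (Nat.dvd_one.1 ((Nat.dvd_add_right
      (dvd_add (dvd_pow h1 (by omega)) (dvd_pow h1 (by omega)))).1 hd))
  have hlt : q ^ 8 + q ^ 4 + 1 < q ^ 9 := by
    have h1 : q ^ 4 + 1 ≤ q ^ 5 := succ_le hq2 4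
    have h2 : q ^ 5 < q ^ 8 := Nat.pow_lt_pow_right (by omega) (by norm_num)
    have h3 : q ^ 8 * 2 ≤ q ^ 9 := by rw [pow_succ q 8]; exact Nat.mul_le_mul_left _ hq2
    omega
  exact ok_exc (d := 1) (N := 12) (M := 2 + 6 + 9) hp hf hF hp.not_dvd_one
    (not_dvd_mul hp (not_dvd_mul hp (nd 2 (by omega)) (nd 6 (by omega))) h8)
    (by rw [one_mul, h]; ring)
    (by rw [pow_add q (2 + 6) 9]; exact Nat.mul_lt_mul'' (mul_pred_lt hq2 (pred_lt hq2 2) 6) hlt)
    (by omega) (by omega)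

theorem ok_2F4 {K : Type*} [Field K] [Fintype K] {m : ℕ} (hK : Fintype.card K = 2 ^ (2 * m + 1)) :
    OK 2 (Nat.card ↥(Cfsg.Lie.twistedF4 K (2 ^ m))) := by
  have h := Cfsg.Agent.S1068.result hK
  set q := 2 ^ (2 * m + 1) with hF
  have hp := Nat.prime_two
  have hf : 2 * m + 1 ≠ 0 := by omega
  have hq2 := two_le hp hf hF
  exact ok_exc (d := 1) (N := 12) hp hf hF hp.not_dvd_one
    (not_dvd_mul hp (not_dvd_mul hp (not_dvd_mul hp (not_dvd_pred hp hf hF (j := 1) (by omega))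
      (not_dvd_succ hp hf hF (j := 3) (by omega))) (not_dvd_pred hp hf hF (j := 4) (by omega)))
      (not_dvd_succ hp hf hF (j := 6) (by omega)))
    (by rw [one_mul, h, pow_one]; ring) (mul_succ_lt hq2 (mul_pred_lt hq2 (mul_succ_lt hq2 (pred_lt hq2 1) 3) 4) 6)
    (by omega) (by omega)

theorem ok_2G2 {K : Type*} [Field K] [Fintype K] {m : ℕ} (hK : Fintype.card K = 3 ^ (2 * m + 1)) :
    OK 3 (Nat.card ↥(Cfsg.Lie.twistedG2 K (3 ^ m))) := by
  have h := Cfsg.Agent.S1069.result hK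
  set q := 3 ^ (2 * m + 1) with hF
  have hp := Nat.prime_three
  have hf : 2 * m + 1 ≠ 0 := by omega
  have hq2 := two_le hp hf hF
  exact ok_exc (d := 1) (N := 3) hp hf hF hp.not_dvd_one
    (not_dvd_mul hp (not_dvd_pred hp hf hF (j := 1) (by omega)) (not_dvd_succ hp hf hF (j := 3) (by omega)))
    (by rw [one_mul, h, pow_one, mul_assoc]) (mul_succ_lt hq2 (pred_lt hq2 1) 3) (by omega) (by omega)

theorem ok_sz {K : Type*} [Field K] [Fintype K] {m : ℕ} (hm : 1 ≤ m) (hK : Fintype.card K = 2 ^ (2 * m + 1)) :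
    OK 2 (Nat.card ↥(Cfsg.Lie.Sz K (2 ^ (m + 1)))) := by
  have h := (Cfsg.Agent.S1163.result hm hK).1
  set q := 2 ^ (2 * m + 1) with hF
  have hp := Nat.prime_two
  have hf : 2 * m + 1 ≠ 0 := by omega
  have hq2 := two_le hp hf hF
  refine ok_exc (d := 1) (N := 2) (M := 3) hp hf hF hp.not_dvd_one
    (not_dvd_mul hp (not_dvd_pred hp hf hF (j := 1) (by omega)) (not_dvd_succ hp hf hF (j := 2) (by omega)))
    (by rw [one_mul, h, pow_one, mul_assoc]) ?_ (by omega) (by omega)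
  obtain ⟨x, hx⟩ := Nat.exists_eq_add_of_le hq2
  rw [hx, pow_one, show 2 + x - 1 = 1 + x by omega]
  nlinarith

end CfsgLib.LieBound
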